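import Cfsg.Agent.LocalEvenD.SLTwo.Group

/-!
The structure theorem for `Q`.
-/

set_option autoImplicit false
set_option linter.style.haveILetI false

namespace Cfsg.Agent.LocalEvenD.SLTwo

open Matrix
open scoped IsMulCommutative

variable {K : Type*} [Field K] [Fintype K] [CharP K 2]

theorem elementary (hn : ∃ s : K, s ≠ 0 ∧ s ≠ 1) :
    ∀ (n : ℕ) {G : Type*} [Group G] [Finite G] {Q : Subgroup G} [Q.Normal]
      (e : G ⧸ Q ≃* SpecialLinearGroup (Fin 2) K) (x : G),
      Nat.card G ≤ n → Free e x → IsMulCommutative Q ∧ ∀ a ∈ Q, a * a = 1 := by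
  intro n
  induction n with
  | zero => intro G _ _ Q _ e x hle; exact absurd hle (by have := Nat.card_pos (α := G); omega)
  | succ n ih =>
    intro G _ _ Q _ e x hle hx
    by_cases hQ : Q = ⊥
    · subst hQ
      exact ⟨⟨⟨fun a b => Subtype.ext (by simp [Subgroup.mem_bot.1 a.2, Subgroup.mem_bot.1 b.2])⟩⟩,
        fun a ha => by simp [Subgroup.mem_bot.1 ha]⟩
    haveI := (Subgroup.nontrivial_iff_ne_bot Q).2 hQ
    haveI := Fact.mk Nat.prime_two
    set C := Q ⊓ Subgroup.centralizer (Q : Set G) with hC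
    let Z : Subgroup G :=
      { carrier := {a | a ∈ C ∧ a * a = 1}
        one_mem' := ⟨one_mem _, mul_one 1⟩
        mul_mem' := fun {a b} ha hb => ⟨mul_mem ha.1 hb.1, by
          rw [mul_assoc, ← mul_assoc b, ← Subgroup.mem_centralizer_iff.1 ha.1.2 b hb.1.1 |>.symm,
            mul_assoc, hb.2, mul_one, ha.2]⟩
        inv_mem' := fun {a} ha => ⟨inv_mem ha.1, by rw [← _root_.mul_inv_rev, ha.2, inv_one]⟩ }
    haveI : C.Normal := by
      haveI : (Subgroup.centralizer (Q : Set G)).Normal := Subgroup.normal_centralizer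
      exact inferInstance
    haveI hZn : Z.Normal := ⟨fun a ha g => ⟨(inferInstance : C.Normal).conj_mem a ha.1 g, by
      rw [← pow_two, conj_pow, pow_two, ha.2, mul_one, mul_inv_cancel]⟩⟩
    have hZQ : Z ≤ Q := fun a ha => ha.1.1
    have hZc : Z ≤ Subgroup.centralizer (Q : Set G) := fun a ha => ha.1.2
    haveI : IsMulCommutative Z := ⟨⟨fun a b => Subtype.ext
      (Subgroup.mem_centralizer_iff.1 (hZc b.2) a (hZQ a.2))⟩⟩
    have hZne : Z ≠ ⊥ := by
      haveI := (hx.two).center_nontrivial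
      obtain ⟨k, hk, hcard⟩ :=
        (hx.two.to_subgroup (Subgroup.center ↥Q)).nontrivial_iff_card.1 inferInstance
      obtain ⟨c, hc⟩ := exists_prime_orderOf_dvd_card' (G := Subgroup.center ↥Q) 2
        (hcard ▸ dvd_pow_self 2 hk.ne')
      intro hbot
      have hmem : ((c : ↥Q) : G) ∈ Z := ⟨⟨(c : ↥Q).2, Subgroup.mem_centralizer_iff.2 fun q hq =>
        congrArg Subtype.val (Subgroup.mem_center_iff.1 c.2 ⟨q, hq⟩)⟩, by
          have := congrArg (fun y : Subgroup.center ↥Q => ((y : ↥Q) : G)) (hc ▸ pow_orderOf_eq_one c : c ^ 2 = 1)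
          simpa [pow_two] using this⟩
      rw [hbot, Subgroup.mem_bot] at hmem
      have : c = 1 := Subtype.ext (Subtype.ext hmem)
      rw [this, orderOf_one] at hc
      exact absurd hc (by norm_num)
    haveI : (Q.map (QuotientGroup.mk' Z)).Normal :=
      Subgroup.Normal.map inferInstance _ (QuotientGroup.mk'_surjective Z)
    have hlt : Nat.card (G ⧸ Z) < Nat.card G := by
      rw [Z.card_eq_card_quotient_mul_card_subgroup]
      exact lt_mul_of_one_lt_right Nat.card_pos ((Subgroup.one_lt_card_iff_ne_bot Z).2 hZne)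
    obtain ⟨hab, h2⟩ := ih _ _ (by omega) (hx.quotient hZQ)
    haveI := hab
    exact elementary_of_quotient hn hx hZQ hZc (fun a ha => ha.2) h2

/-- `Q` is a direct product of natural modules. -/
theorem decompose {G : Type*} [Group G] [Finite G] {Q : Subgroup G} [Q.Normal]
    {e : G ⧸ Q ≃* SpecialLinearGroup (Fin 2) K} {x : G} (hx : Free e x)
    (hn : ∃ s : K, s ≠ 0 ∧ s ≠ 1) [IsMulCommutative Q] (h2 : ∀ a ∈ Q, a * a = 1) :
    ∃ (k : ℕ) (V : Fin k → Subgroup G), (∀ i, V i ≤ Q ∧ (V i).Normal ∧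
      Cfsg.ActsAsSL2OnSection K ⊤ ⊤ (V i) ⊥) ∧ iSupIndep V ∧ ⨆ i, V i = Q := by
  classical
  have hc : Q ≤ Subgroup.centralizer (Q : Set G) := fun a ha b hb =>
    congrArg Subtype.val (mul_comm (⟨b, hb⟩ : ↥Q) ⟨a, ha⟩)
  set ρ := secRep e Q hc with hρ
  have H : FPF ρ := secRep_fpf hx le_rfl h2
  let W : AddSubgroup (Additive ↥Q) := (dd ρ (1 : K)).ker
  letI : SMul K ↥W := ⟨fun r a => ⟨bb ρ r a, bb_mem H r a⟩⟩
  letI : Module K ↥W :=
    { one_smul := fun a => Subtype.ext (bb_one H a.2)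
      mul_smul := fun r s a => Subtype.ext (nat_bb_mul H hn a.2 r s)
      smul_zero := fun r => Subtype.ext (map_zero (bb ρ r))
      smul_add := fun r a b => Subtype.ext (map_add (bb ρ r) _ _)
      add_smul := fun r s a => Subtype.ext (nat_bb_add H hn a.2 r s)
      zero_smul := fun a => Subtype.ext (nat_bb_zero H hn a) }
  haveI : Module.Finite K ↥W := Module.Finite.of_finite
  let bas := Module.finBasis K ↥W
  let Φ : Fin (Module.finrank K ↥W) → (Fin 2 → K) →+ Additive ↥Q := fun i =>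
    AddMonoidHom.mk' (fun c => bb ρ (c 0) (bas i) + ρ (wel K) (bb ρ (c 1) (bas i))) fun c d => by
      rw [Pi.add_apply, Pi.add_apply, nat_bb_add H hn (bas i).2, nat_bb_add H hn (bas i).2, map_add]
      abel
  have hΦi : ∀ i, Function.Injective (Φ i) := fun i c d hcd => by
    obtain ⟨h0, h1⟩ := coord_unique H (bb_mem H _ _) (bb_mem H _ _) (bb_mem H _ _) (bb_mem H _ _) hcd
    have hb := bas.ne_zero i
    funext j
    fin_cases j
    · exact smul_left_injective K hb (Subtype.ext h0 : c 0 • bas i = d 0 • bas i)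
    · exact smul_left_injective K hb (Subtype.ext h1 : c 1 • bas i = d 1 • bas i)
  let f : Fin (Module.finrank K ↥W) → Multiplicative (Fin 2 → K) →* G := fun i =>
    Q.subtype.comp (AddMonoidHom.toMultiplicative (Φ i))
  have hfi : ∀ i, Function.Injective (f i) := fun i a b hab => hΦi i (Subtype.ext hab)
  let V : Fin (Module.finrank K ↥W) → Subgroup G := fun i => (f i).range
  let ρE : (⊤ : Subgroup G) →* SpecialLinearGroup (Fin 2) K :=
    e.toMonoidHom.comp ((QuotientGroup.mk' Q).comp (⊤ : Subgroup G).subtype)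
  have hact : ∀ (i : Fin (Module.finrank K ↥W)) (g : G) (c : Fin 2 → K),
      g * f i (Multiplicative.ofAdd c) * g⁻¹ = f i (Multiplicative.ofAdd
        ((e (QuotientGroup.mk g) : Matrix (Fin 2) (Fin 2) K).mulVec c)) := by
    intro i g c
    have h1 : ρ (e (QuotientGroup.mk g)) (Φ i c) =
        Φ i ((e (QuotientGroup.mk g) : Matrix (Fin 2) (Fin 2) K).mulVec c) := by
      show ρ _ (bb ρ (c 0) (bas i) + ρ (wel K) (bb ρ (c 1) (bas i))) = _
      rw [nat_action H hn _ _ _ (bb_mem H _ _) (bb_mem H _ _)]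
      simp only [← nat_bb_mul H hn (bas i).2, ← nat_bb_add H hn (bas i).2]
      show _ = bb ρ _ (bas i) + ρ (wel K) (bb ρ _ (bas i))
      simp [Matrix.mulVec, dotProduct, Fin.sum_univ_two]
    have h2' := congrArg (fun v : Additive ↥Q => ((v.toMul : ↥Q) : G)) h1
    rw [hρ] at h2'
    simp only [secRep_apply (y := g) rfl] at h2'
    exact h2'
  refine ⟨_, V, fun i => ⟨?_, ?_, ?_⟩, ?_, ?_⟩
  · rintro _ ⟨c, rfl⟩
    exact SetLike.coe_mem _
  · refine ⟨?_⟩
    rintro _ ⟨c, rfl⟩ g
    exact ⟨_, (hact i g c.toAdd).symm⟩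
  · refine ⟨le_of_le_of_eq le_top (Subgroup.normalizer_eq_top_iff.2 ?_).symm, bot_le, ρE,
      ((MonoidHom.ofInjective (hfi i)).symm).toMonoidHom, ?_, (MonoidHom.ofInjective (hfi i)).symm.surjective,
      fun u => ?_, fun g u => ?_⟩
    · refine ⟨?_⟩
      rintro _ ⟨c, rfl⟩ g
      exact ⟨_, (hact i g c.toAdd).symm⟩
    · refine MonoidHom.range_eq_top.2 fun y => ?_
      obtain ⟨g, hg⟩ := QuotientGroup.mk_surjective (e.symm y)
      exact ⟨⟨g, trivial⟩, by show e (QuotientGroup.mk g) = y; rw [hg, MulEquiv.apply_symm_apply]⟩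
    · rw [Subgroup.mem_bot, MulEquiv.coe_toMonoidHom, MulEquiv.map_eq_one_iff]
      exact ⟨fun h => congrArg Subtype.val h, fun h => Subtype.ext h⟩
    · obtain ⟨c, hc⟩ := (MonoidHom.ofInjective (hfi i)).surjective u
      subst hc
      refine ⟨MonoidHom.ofInjective (hfi i) (Multiplicative.ofAdd
        (((ρE g : SpecialLinearGroup (Fin 2) K) : Matrix (Fin 2) (Fin 2) K).mulVec c.toAdd)),
        (hact i g c.toAdd).symm, ?_⟩
      rw [MulEquiv.coe_toMonoidHom, MulEquiv.symm_apply_apply, MulEquiv.symm_apply_apply]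
      rfl
  · -- independence, by means of the coordinates
    let P : Fin (Module.finrank K ↥W) → Additive ↥Q →+ K × K := fun i => AddMonoidHom.mk'
      (fun v => (bas.repr ⟨v + ρ (wel K) (dd ρ 1 v), (coord_exists H v).1⟩ i,
        bas.repr ⟨dd ρ 1 v, dd_self H 1 v⟩ i)) fun v v' => by
      refine Prod.ext ?_ ?_
      · show bas.repr _ i = bas.repr _ i + bas.repr _ i
        rw [← Finsupp.add_apply, ← map_add]
        congr 2
        exact Subtype.ext (by simp only [AddSubgroup.coe_add, map_add]; abel)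
      · show bas.repr _ i = bas.repr _ i + bas.repr _ i
        rw [← Finsupp.add_apply, ← map_add]
        congr 2
        exact Subtype.ext (map_add _ _ _)
    have hP : ∀ i j c, P i (Φ j c) = if i = j then (c 0, c 1) else (0, 0) := by
      intro i j c
      have hb0 : dd ρ 1 (Φ j c) = bb ρ (c 1) (bas j) := by
        show dd ρ 1 (bb ρ (c 0) (bas j) + ρ (wel K) (bb ρ (c 1) (bas j))) = _
        rw [map_add, bb_mem H, zero_add, dd_one_wel H (bb_mem H _ _)]
      have e1 : (⟨Φ j c + ρ (wel K) (dd ρ 1 (Φ j c)), (coord_exists H _).1⟩ : ↥W) = c 0 • bas j :=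
        Subtype.ext (by
          show Φ j c + ρ (wel K) (dd ρ 1 (Φ j c)) = bb ρ (c 0) (bas j)
          rw [hb0]
          show bb ρ (c 0) (bas j) + _ + _ = _
          rw [add_assoc, H.two, add_zero])
      have e2 : (⟨dd ρ 1 (Φ j c), dd_self H 1 _⟩ : ↥W) = c 1 • bas j := Subtype.ext hb0
      show (bas.repr _ i, bas.repr _ i) = _
      rw [e1, e2]
      by_cases hij : i = j
      · subst hij; simp
      · simp [hij, Finsupp.single_eq_of_ne hij]
    rw [iSupIndep_def]
    intro i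
    let U : Subgroup G := (AddMonoidHom.toMultiplicativeRight (P i) : ↥Q →* Multiplicative (K × K)).ker.map Q.subtype
    have hle : (⨆ (j) (_ : j ≠ i), V j) ≤ U := iSup₂_le fun j hji => by
      rintro _ ⟨c, rfl⟩
      exact ⟨(Φ j c.toAdd).toMul,
        show P i (Φ j c.toAdd) = (0, 0) by rw [hP, if_neg hji.symm], rfl⟩
    rw [disjoint_iff, eq_bot_iff]
    rintro y ⟨⟨c, rfl⟩, hy⟩
    obtain ⟨z, hz, hzy⟩ := hle hy
    have hz' : (z : ↥Q) = (Φ i c.toAdd).toMul := Subtype.ext hzy
    have h0 : P i (Φ i c.toAdd) = (0, 0) := by rw [hz'] at hz; exact hz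
    rw [hP, if_pos rfl, Prod.mk.injEq] at h0
    have : c = 1 := Multiplicative.toAdd.injective (by
      funext j
      fin_cases j
      · exact h0.1
      · exact h0.2)
    rw [this, map_one]
    exact one_mem _
  · refine le_antisymm (iSup_le fun i => by rintro _ ⟨c, rfl⟩; exact SetLike.coe_mem _) fun y hy => ?_
    let M : AddSubgroup (Additive ↥Q) := Subgroup.toAddSubgroup ((⨆ i, V i).subgroupOf Q)
    suffices h : Additive.ofMul (⟨y, hy⟩ : ↥Q) ∈ M from h
    obtain ⟨ha, hb, hv⟩ := coord_exists H (Additive.ofMul (⟨y, hy⟩ : ↥Q))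
    rw [hv]
    have hmem : ∀ i c, Φ i c ∈ M := fun i c =>
      Subgroup.mem_iSup_of_mem (S := V) i ⟨Multiplicative.ofAdd c, rfl⟩
    have hW : ∀ (a : Additive ↥Q), dd ρ 1 a = 0 → a ∈ M ∧ ρ (wel K) a ∈ M := by
      intro a ha
      have e0 : a = ∑ i, bb ρ (bas.repr ⟨a, ha⟩ i) (bas i) := by
        conv_lhs => rw [show a = ((⟨a, ha⟩ : ↥W) : Additive ↥Q) from rfl, ← bas.sum_repr ⟨a, ha⟩]
        rw [AddSubgroup.val_finsetSum]
        rfl
      constructor
      · rw [e0]
        refine sum_mem fun i _ => ?_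
        convert hmem i ![bas.repr ⟨a, ha⟩ i, 0] using 1
        show _ = bb ρ _ (bas i) + ρ (wel K) (bb ρ _ (bas i))
        simp [nat_bb_zero H hn]
      · rw [e0, map_sum]
        refine sum_mem fun i _ => ?_
        convert hmem i ![0, bas.repr ⟨a, ha⟩ i] using 1
        show _ = bb ρ _ (bas i) + ρ (wel K) (bb ρ _ (bas i))
        simp [nat_bb_zero H hn]
    exact add_mem (hW _ ha).1 (hW _ hb).2

end Cfsg.Agent.LocalEvenD.SLTwo
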