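import Cfsg.Agent.LocalEvenD.SLTwo.Section
import Mathlib.GroupTheory.QuotientGroup.Basic
import Mathlib.GroupTheory.PGroup
import Mathlib.LinearAlgebra.Dimension.Free
import Cfsg.Prelude.Def_BaumannBlocks
import Cfsg.Prelude.Def_Transfer

/-!
Extensions of `SL(2, K)`, `K` of characteristic two, by a 2-group on which an element of order three
acts without fixed points.
-/

set_option autoImplicit false
set_option linter.style.haveILetI false

namespace Cfsg.Agent.LocalEvenD.SLTwo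

open scoped commutatorElement

open Matrix

section Conj

variable {K : Type*} [Field K] [Fintype K] [CharP K 2]

theorem trace_eq_one {X : SpecialLinearGroup (Fin 2) K} (hX : X * X * X = 1) (hne : X ≠ 1) :
    (X : Matrix (Fin 2) (Fin 2) K).trace = 1 := by
  by_contra ht
  apply hne
  set M := (X : Matrix (Fin 2) (Fin 2) K) with hM
  set t := M.trace with htdef
  have hdet : M 0 0 * M 1 1 + M 0 1 * M 1 0 = 1 := by
    have := X.2
    rwa [det_fin_two, CharTwo.sub_eq_add] at this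
  have h2 : (2 : K) = 0 := CharTwo.two_eq_zero
  have hsq : M * M = t • M + 1 := by
    ext i j
    fin_cases i <;> fin_cases j <;>
      simp [Matrix.mul_apply, Fin.sum_univ_two, htdef, trace_fin_two]
    · linear_combination -hdet + M 0 1 * M 1 0 * h2 - h2
    · ring
    · ring
    · linear_combination -hdet + M 0 1 * M 1 0 * h2 - h2
  have hcube : M * M * M = 1 := congrArg Subtype.val hX
  rw [hsq, add_mul, Matrix.smul_mul, hsq, smul_add, smul_smul, one_mul] at hcube
  have ht1 : t + 1 ≠ 0 := fun h => ht (CharTwo.add_eq_zero.1 h)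
  have hs : ∀ i j, (t + 1) * M i j = (1 : Matrix (Fin 2) (Fin 2) K) i j := fun i j => by
    have h := congrFun (congrFun hcube i) j
    simp only [Matrix.add_apply, Matrix.smul_apply, smul_eq_mul] at h
    refine mul_left_cancel₀ ht1 ?_
    linear_combination h + (M i j * t - (t : K) * (1 : Matrix (Fin 2) (Fin 2) K) i j) * h2
  have h00 := hs 0 0
  have h11 := hs 1 1
  have h01 : M 0 1 = 0 := (mul_eq_zero.1 ((hs 0 1).trans (by simp))).resolve_left ht1
  have h10 : M 1 0 = 0 := (mul_eq_zero.1 ((hs 1 0).trans (by simp))).resolve_left ht1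
  simp only [Matrix.one_apply_eq] at h00 h11
  have heq : M 0 0 = M 1 1 := mul_left_cancel₀ ht1 (h00.trans h11.symm)
  rw [h01, zero_mul, add_zero, ← heq] at hdet
  have h1 : M 0 0 = 1 := by
    refine CharTwo.add_eq_zero.1 (mul_self_eq_zero.1 ?_)
    linear_combination hdet + (M 0 0 + 1) * h2
  ext i j
  fin_cases i <;> fin_cases j <;> simp [← hM, h01, h10, h1, ← heq]

/-- Elements of trace one are conjugate to the companion matrix. -/
theorem exists_conj_companion (M : SpecialLinearGroup (Fin 2) K)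
    (ht : (M : Matrix (Fin 2) (Fin 2) K).trace = 1) :
    ∃ P : SpecialLinearGroup (Fin 2) K,
      (M : Matrix (Fin 2) (Fin 2) K) * (P : Matrix (Fin 2) (Fin 2) K) =
        (P : Matrix (Fin 2) (Fin 2) K) * !![0, 1; 1, 1] := by
  have h2 : (2 : K) = 0 := CharTwo.two_eq_zero
  set a := (M : Matrix (Fin 2) (Fin 2) K) 0 0 with ha
  set b := (M : Matrix (Fin 2) (Fin 2) K) 0 1 with hb
  set c := (M : Matrix (Fin 2) (Fin 2) K) 1 0 with hc
  set d := (M : Matrix (Fin 2) (Fin 2) K) 1 1 with hd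
  have hdet : a * d + b * c = 1 := by
    have := M.2
    rwa [det_fin_two, CharTwo.sub_eq_add] at this
  have htr : a + d = 1 := by rwa [trace_fin_two] at ht
  obtain ⟨u, v, huv⟩ : ∃ u v : K, u * (c * u + d * v) + v * (a * u + b * v) ≠ 0 := by
    by_cases hc0 : c = 0
    · by_cases hb0 : b = 0
      · refine ⟨1, 1, fun h => one_ne_zero (α := K) ?_⟩
        rw [← h, hc0, hb0]
        linear_combination -htr
      · exact ⟨0, 1, by simpa using hb0⟩
    · exact ⟨1, 0, by simpa using hc0⟩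
  obtain ⟨r, hr⟩ := (PerfectRing.bijective_frobenius (R := K) (p := 2)).2
    (u * (c * u + d * v) + v * (a * u + b * v))⁻¹
  have hr' : r * r * (u * (c * u + d * v) + v * (a * u + b * v)) = 1 := by
    rw [← pow_two, show r ^ 2 = _ from hr, inv_mul_cancel₀ huv]
  refine ⟨⟨!![r * u, r * (a * u + b * v); r * v, r * (c * u + d * v)], ?_⟩, ?_⟩
  · rw [det_fin_two_of, CharTwo.sub_eq_add]
    linear_combination hr'
  · ext i j
    fin_cases i <;> fin_cases j <;>
      simp [Matrix.mul_apply, Fin.sum_univ_two, ← ha, ← hb, ← hc, ← hd]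
    · ring
    · linear_combination r * u * hdet + r * (a * u + b * v) * htr - a * r * u * d * h2
    · ring
    · linear_combination r * v * hdet + r * (c * u + d * v) * htr - a * r * v * d * h2

theorem isConj_of_trace_one {X g : SpecialLinearGroup (Fin 2) K}
    (hX : (X : Matrix (Fin 2) (Fin 2) K).trace = 1) (hg : (g : Matrix (Fin 2) (Fin 2) K).trace = 1) :
    ∃ P : SpecialLinearGroup (Fin 2) K, P * X * P⁻¹ = g := by
  obtain ⟨P, hP⟩ := exists_conj_companion X hX
  obtain ⟨R, hR⟩ := exists_conj_companion g hg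
  let C : SpecialLinearGroup (Fin 2) K :=
    ⟨!![0, 1; 1, 1], by rw [det_fin_two_of]; simp [CharTwo.neg_eq]⟩
  have h1 : X * P = P * C := Subtype.ext hP
  have h2 : g * R = R * C := Subtype.ext hR
  refine ⟨R * P⁻¹, ?_⟩
  calc R * P⁻¹ * X * (R * P⁻¹)⁻¹ = R * P⁻¹ * (X * P) * R⁻¹ := by group
    _ = g * R * R⁻¹ := by rw [h1, h2]; group
    _ = g := by group

end Conj

open scoped IsMulCommutative

variable {K : Type*} [Field K] [Fintype K] [CharP K 2] {G : Type*} [Group G] {Q : Subgroup G}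
  [Q.Normal] (e : G ⧸ Q ≃* SpecialLinearGroup (Fin 2) K)

/-- The action of `SL(2, K)` on an abelian normal subgroup centralized by `Q`. -/
def secRep (A : Subgroup G) [A.Normal] [IsMulCommutative A]
    (hA : A ≤ Subgroup.centralizer (Q : Set G)) :
    SpecialLinearGroup (Fin 2) K →* AddMonoid.End (Additive ↥A) where
  toFun g := MonoidHom.toAdditive ((QuotientGroup.lift Q (MulAut.conjNormal (H := A)) fun q hq => by
    rw [MonoidHom.mem_ker]
    ext a
    rw [MulAut.conjNormal_apply, MulAut.one_apply, ← Subgroup.mem_centralizer_iff.1 (hA a.2) q hq |>.symm,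
      mul_inv_cancel_right]) (e.symm g)).toMonoidHom
  map_one' := by
    ext a
    rw [map_one, map_one]
    rfl
  map_mul' g h := by
    ext a
    rw [map_mul, map_mul]
    rfl

variable {e}

theorem secRep_apply {A : Subgroup G} [A.Normal] [IsMulCommutative A]
    {hA : A ≤ Subgroup.centralizer (Q : Set G)} {g : SpecialLinearGroup (Fin 2) K} {y : G}
    (hy : e (QuotientGroup.mk y) = g) (a : Additive ↥A) :
    (((secRep e A hA g a).toMul : ↥A) : G) = y * (a.toMul : ↥A) * y⁻¹ := by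
  subst hy
  show ((QuotientGroup.lift Q (MulAut.conjNormal (H := A)) _ (e.symm (e (QuotientGroup.mk y))))
    a.toMul : G) = _
  rw [MulEquiv.symm_apply_apply]
  rfl

variable (e) in
/-- The hypothesis on the element of order three. -/
structure Free (x : G) : Prop where
  ord : orderOf x = 3
  fpf : ∀ q ∈ Q, x * q * x⁻¹ = q → q = 1
  two : IsPGroup 2 ↥Q
  out : e (QuotientGroup.mk x) ≠ 1

theorem Free.mk' {x : G} (hQ : IsPGroup 2 ↥Q) (hx : orderOf x = 3)
    (hfpf : ∀ q ∈ Q, x * q * x⁻¹ = q → q = 1) : Free e x := by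
  refine ⟨hx, hfpf, hQ, fun h => ?_⟩
  rw [← map_one e, e.injective.eq_iff, QuotientGroup.eq_one_iff] at h
  obtain ⟨k, hk⟩ := hQ ⟨x, h⟩
  have h1 : 3 ∣ 2 ^ k := hx ▸ orderOf_dvd_of_pow_eq_one (congrArg Subtype.val hk)
  exact absurd (Nat.prime_three.dvd_of_dvd_pow h1) (by norm_num)

theorem Free.exists_conj {x : G} (hx : Free e x) {g : SpecialLinearGroup (Fin 2) K}
    (hg : (g : Matrix (Fin 2) (Fin 2) K).trace = 1) :
    ∃ z : G, e (QuotientGroup.mk (z * x * z⁻¹)) = g := by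
  have h3 : (QuotientGroup.mk x : G ⧸ Q) * QuotientGroup.mk x * QuotientGroup.mk x = 1 := by
    rw [← QuotientGroup.mk_mul, ← QuotientGroup.mk_mul, ← pow_three', ← hx.ord, pow_orderOf_eq_one]
    rfl
  obtain ⟨P, hP⟩ := isConj_of_trace_one
    (trace_eq_one (X := e (QuotientGroup.mk x)) (by rw [← map_mul, ← map_mul, h3, map_one]) hx.out) hg
  obtain ⟨z, hz⟩ := QuotientGroup.mk_surjective (e.symm P)
  exact ⟨z, by rw [QuotientGroup.mk_mul, QuotientGroup.mk_mul, QuotientGroup.mk_inv, map_mul, map_mul,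
    map_inv, hz, MulEquiv.apply_symm_apply, hP]⟩

theorem secRep_fpf {x : G} (hx : Free e x) {A : Subgroup G} [A.Normal] [IsMulCommutative A]
    {hA : A ≤ Subgroup.centralizer (Q : Set G)} (hAQ : A ≤ Q) (h2 : ∀ a ∈ A, a * a = 1) :
    FPF (secRep e A hA) := by
  refine ⟨fun v => Additive.toMul.injective (Subtype.ext (h2 _ v.toMul.2)), fun g hg v => ?_⟩
  obtain ⟨z, hz⟩ := hx.exists_conj hg
  set w := secRep e A hA g (secRep e A hA g v) + secRep e A hA g v + v with hw
  have h3 : secRep e A hA g (secRep e A hA g (secRep e A hA g v)) = v := by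
    rw [← ap_mul, ← ap_mul, show g * g * g = 1 by
      rw [← hz, ← map_mul, ← map_mul, ← QuotientGroup.mk_mul, ← QuotientGroup.mk_mul, ← pow_three',
        conj_pow, ← hx.ord, pow_orderOf_eq_one, mul_one, mul_inv_cancel]
      exact map_one e, ap_one]
  have hfix : secRep e A hA g w = w := by
    rw [hw, map_add, map_add, h3]
    abel
  have h := congrArg (fun a : Additive ↥A => ((a.toMul : ↥A) : G)) hfix
  simp only [secRep_apply hz] at h
  have h1 : z⁻¹ * (w.toMul : ↥A) * z = 1 := hx.fpf _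
    (hAQ (by simpa using (inferInstance : A.Normal).conj_mem _ w.toMul.2 z⁻¹)) (by
      conv_rhs => rw [← h]
      group)
  refine Additive.toMul.injective (Subtype.ext ?_)
  calc ((w.toMul : ↥A) : G) = z * (z⁻¹ * (w.toMul : ↥A) * z) * z⁻¹ := by group
    _ = 1 := by rw [h1, mul_one, mul_inv_cancel]

/-- Fixed-point-freeness passes to quotients by normal subgroups inside `Q`. -/
theorem Free.quotient [Finite G] {x : G} (hx : Free e x) {Z : Subgroup G} [Z.Normal] (hZQ : Z ≤ Q)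
    [(Q.map (QuotientGroup.mk' Z)).Normal] :
    Free ((QuotientGroup.quotientQuotientEquivQuotient Z Q hZQ).trans e) (QuotientGroup.mk' Z x) := by
  set pr := QuotientGroup.mk' Z with hpr
  let e' : (G ⧸ Z) ⧸ Q.map pr ≃* SpecialLinearGroup (Fin 2) K :=
    (QuotientGroup.quotientQuotientEquivQuotient Z Q hZQ).trans e
  have he' : ∀ y : G, e' (QuotientGroup.mk (pr y)) = e (QuotientGroup.mk y) := fun y => rfl
  refine Free.mk' (hx.two.map pr) ?_ ?_
  · haveI := Fact.mk Nat.prime_three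
    refine orderOf_eq_prime (by rw [← map_pow, ← hx.ord, pow_orderOf_eq_one, map_one]) fun h => hx.out ?_
    rw [← he', h]
    exact map_one e'
  · rintro _ ⟨a, ha, rfl⟩ hfix
    -- the map `a ↦ x a x⁻¹ a⁻¹` is a bijection of `Q`
    let f : ↥Q → ↥Q := fun q => ⟨x * q * x⁻¹ * (q : G)⁻¹,
      mul_mem ((inferInstance : Q.Normal).conj_mem q q.2 x) (inv_mem q.2)⟩
    have hf : Function.Injective f := fun q r hqr => by
      have h : x * q * x⁻¹ * (q : G)⁻¹ = x * r * x⁻¹ * (r : G)⁻¹ := congrArg Subtype.val hqr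
      refine Subtype.ext (inv_mul_eq_one.1 (hx.fpf _ (mul_mem (inv_mem r.2) q.2) ?_)).symm
      calc x * ((r : G)⁻¹ * q) * x⁻¹
          = (x * r * x⁻¹)⁻¹ * (x * q * x⁻¹ * (q : G)⁻¹) * q := by group
        _ = (r : G)⁻¹ * q := by rw [h]; group
    have hfZ : Set.InjOn f {q : ↥Q | (q : G) ∈ Z} := hf.injOn
    have hmaps : Set.MapsTo f {q : ↥Q | (q : G) ∈ Z} {q : ↥Q | (q : G) ∈ Z} := fun q hq =>
      mul_mem ((inferInstance : Z.Normal).conj_mem q hq x) (inv_mem hq)
    obtain ⟨q, hq, hqa⟩ := ((Set.toFinite {q : ↥Q | (q : G) ∈ Z}).injOn_iff_bijOn_of_mapsTo hmaps).1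
      hfZ |>.surjOn (show f ⟨a, ha⟩ ∈ {q : ↥Q | (q : G) ∈ Z} from (QuotientGroup.eq_one_iff _).1 (by
        show pr (x * a * x⁻¹ * a⁻¹) = 1
        rw [map_mul, map_mul, map_mul, map_inv, map_inv, hfix, mul_inv_cancel]))
    rw [show (a : G) = ((⟨a, ha⟩ : ↥Q) : G) from rfl, ← hf hqa]
    exact (QuotientGroup.eq_one_iff _).2 hq

variable (hn : ∃ s : K, s ≠ 0 ∧ s ≠ 1)
include hn

/-- `Q` is elementary abelian when it is so modulo a central elementary abelian subgroup. -/
theorem elementary_of_quotient [Finite G] {x : G} (hx : Free e x) {Z : Subgroup G} [Z.Normal]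
    [IsMulCommutative Z] (hZQ : Z ≤ Q) (hZc : Z ≤ Subgroup.centralizer (Q : Set G))
    (hZ2 : ∀ a ∈ Z, a * a = 1) [IsMulCommutative (Q.map (QuotientGroup.mk' Z))]
    (hV2 : ∀ v ∈ Q.map (QuotientGroup.mk' Z), v * v = 1) :
    IsMulCommutative Q ∧ ∀ a ∈ Q, a * a = 1 := by
  classical
  set pr := QuotientGroup.mk' Z with hpr
  haveI hVn : (Q.map pr).Normal := Subgroup.Normal.map inferInstance _ (QuotientGroup.mk'_surjective Z)
  let e' : (G ⧸ Z) ⧸ Q.map pr ≃* SpecialLinearGroup (Fin 2) K :=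
    (QuotientGroup.quotientQuotientEquivQuotient Z Q hZQ).trans e
  have he' : ∀ y : G, e' (QuotientGroup.mk (pr y)) = e (QuotientGroup.mk y) := fun y => rfl
  have hx' : Free e' (pr x) := hx.quotient hZQ
  have hcV : Q.map pr ≤ Subgroup.centralizer (Q.map pr : Set (G ⧸ Z)) := fun a ha b hb =>
    congrArg Subtype.val (mul_comm (⟨b, hb⟩ : ↥(Q.map pr)) ⟨a, ha⟩)
  set σV := secRep e' (Q.map pr) hcV with hσV
  set σZ := secRep e Z hZc with hσZ
  have hV := secRep_fpf (hA := hcV) hx' le_rfl hV2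
  have hZ := secRep_fpf (hA := hZc) hx hZQ hZ2
  -- representatives
  have hrep : ∀ v : Additive ↥(Q.map pr), ∃ a : ↥Q, pr a = (v.toMul : ↥(Q.map pr)) := fun v => by
    obtain ⟨a, ha, h⟩ := v.toMul.2
    exact ⟨⟨a, ha⟩, h⟩
  choose lf hlf using hrep
  have hcomm : ∀ a b : ↥Q, ⁅(a : G), (b : G)⁆ ∈ Z := fun a b => by
    rw [← QuotientGroup.eq_one_iff (N := Z)]
    show pr ⁅(a : G), (b : G)⁆ = 1
    rw [map_commutatorElement, commutatorElement_eq_one_iff_mul_comm]
    exact congrArg Subtype.val (mul_comm (⟨_, Subgroup.mem_map_of_mem pr a.2⟩ : ↥(Q.map pr))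
      ⟨_, Subgroup.mem_map_of_mem pr b.2⟩)
  have hcz : ∀ (z : G), z ∈ Z → ∀ a : ↥Q, (a : G) * z = z * a := fun z hz a =>
    Subgroup.mem_centralizer_iff.1 (hZc hz) a a.2
  have hindep : ∀ a a' b b' : ↥Q, pr a = pr a' → pr b = pr b' → ⁅(a : G), (b : G)⁆ = ⁅(a' : G), (b' : G)⁆ := by
    intro a a' b b' h1 h2
    obtain ⟨u, hu, ha⟩ : ∃ u ∈ Z, (a : G) = a' * u := ⟨(a' : G)⁻¹ * a, (QuotientGroup.eq).1 h1.symm, by group⟩
    obtain ⟨w, hw, hb⟩ : ∃ w ∈ Z, (b : G) = b' * w := ⟨(b' : G)⁻¹ * b, (QuotientGroup.eq).1 h2.symm, by group⟩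
    have e1 : u * (b : G) * u⁻¹ = b := by rw [← hcz u hu b, mul_inv_cancel_right]
    have e2 : (a' : G) * w * (a' : G)⁻¹ = w := by rw [hcz w hw a', mul_inv_cancel_right]
    calc ⁅(a : G), (b : G)⁆ = a' * (u * b * u⁻¹) * (a' : G)⁻¹ * (b : G)⁻¹ := by
          rw [ha, commutatorElement_def]; group
      _ = a' * b' * (a' : G)⁻¹ * ((a' : G) * w * (a' : G)⁻¹) * w⁻¹ * (b' : G)⁻¹ := by
          rw [e1, hb]; group
      _ = ⁅(a' : G), (b' : G)⁆ := by rw [e2, commutatorElement_def]; group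
  have hadd : ∀ a b c : ↥Q, ⁅((a * b : ↥Q) : G), (c : G)⁆ = ⁅(a : G), (c : G)⁆ * ⁅(b : G), (c : G)⁆ ∧
      ⁅(c : G), ((a * b : ↥Q) : G)⁆ = ⁅(c : G), (a : G)⁆ * ⁅(c : G), (b : G)⁆ := by
    intro a b c
    constructor
    · rw [Subgroup.coe_mul, show ⁅(a : G) * b, (c : G)⁆ = a * ⁅(b : G), (c : G)⁆ * (a : G)⁻¹ * ⁅(a : G), (c : G)⁆ by
        simp only [commutatorElement_def]; group, hcz _ (hcomm b c) a, mul_inv_cancel_right]
      exact congrArg Subtype.val (mul_comm (⟨_, hcomm b c⟩ : ↥Z) ⟨_, hcomm a c⟩)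
    · rw [Subgroup.coe_mul, show ⁅(c : G), (a : G) * b⁆ = ⁅(c : G), (a : G)⁆ * (a * ⁅(c : G), (b : G)⁆ * (a : G)⁻¹) by
        simp only [commutatorElement_def]; group, hcz _ (hcomm c b) a, mul_inv_cancel_right]
  have hlf_add : ∀ v v', pr (lf (v + v') : G) = pr ((lf v * lf v' : ↥Q) : G) := fun v v' => by
    rw [hlf, Subgroup.coe_mul, map_mul, hlf, hlf]
    rfl
  let B : Additive ↥(Q.map pr) →+ Additive ↥(Q.map pr) →+ Additive ↥Z :=
    AddMonoidHom.mk' (fun v => AddMonoidHom.mk'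
      (fun v' => Additive.ofMul (⟨⁅(lf v : G), (lf v' : G)⁆, hcomm _ _⟩ : ↥Z)) fun v' v'' =>
        Additive.toMul.injective (Subtype.ext (by
          show ⁅(lf v : G), (lf (v' + v'') : G)⁆ = ⁅(lf v : G), (lf v' : G)⁆ * ⁅(lf v : G), (lf v'' : G)⁆
          rw [hindep _ _ _ _ rfl (hlf_add v' v''), (hadd _ _ _).2])))
      fun v v' => AddMonoidHom.ext fun u => Additive.toMul.injective (Subtype.ext (by
          show ⁅(lf (v + v') : G), (lf u : G)⁆ = ⁅(lf v : G), (lf u : G)⁆ * ⁅(lf v' : G), (lf u : G)⁆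
          rw [hindep _ _ _ _ (hlf_add v v') rfl, (hadd _ _ _).1]))
  have hequiv : ∀ (y : G) (v : Additive ↥(Q.map pr)),
      pr (lf (σV (e (QuotientGroup.mk y)) v) : G) = pr (y * (lf v : G) * y⁻¹) := fun y v => by
    rw [hlf, hσV, secRep_apply (he' y), map_mul, map_mul, map_inv, hlf]
  have hBeq : ∀ g v v', B (σV g v) (σV g v') = σZ g (B v v') := by
    intro g v v'
    obtain ⟨y, hy⟩ := QuotientGroup.mk_surjective (e.symm g)
    have hg : e (QuotientGroup.mk y) = g := by rw [hy, MulEquiv.apply_symm_apply]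
    refine Additive.toMul.injective (Subtype.ext ?_)
    rw [hσZ, secRep_apply hg]
    show ⁅(lf (σV g v) : G), (lf (σV g v') : G)⁆ = y * ⁅(lf v : G), (lf v' : G)⁆ * y⁻¹
    subst hg
    rw [hindep _ ⟨_, (inferInstance : Q.Normal).conj_mem _ (lf v).2 y⟩ _
      ⟨_, (inferInstance : Q.Normal).conj_mem _ (lf v').2 y⟩ (hequiv y v) (hequiv y v')]
    simp only [commutatorElement_def]
    group
  have hB := pairing_eq_zero hV hZ hn B hBeq
  have habel : ∀ a b : ↥Q, a * b = b * a := fun a b => by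
    refine Subtype.ext ?_
    rw [Subgroup.coe_mul, Subgroup.coe_mul, ← commutatorElement_eq_one_iff_mul_comm,
      hindep a (lf (Additive.ofMul ⟨_, Subgroup.mem_map_of_mem pr a.2⟩)) b
        (lf (Additive.ofMul ⟨_, Subgroup.mem_map_of_mem pr b.2⟩)) (by rw [hlf]; rfl) (by rw [hlf]; rfl)]
    exact congrArg (fun f : Additive ↥(Q.map pr) →+ Additive ↥(Q.map pr) →+ Additive ↥Z =>
      (((f (Additive.ofMul ⟨_, Subgroup.mem_map_of_mem pr a.2⟩)
        (Additive.ofMul ⟨_, Subgroup.mem_map_of_mem pr b.2⟩)).toMul : ↥Z) : G)) hB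
  haveI hQab : IsMulCommutative Q := ⟨⟨habel⟩⟩
  refine ⟨hQab, ?_⟩
  have hcQ : Q ≤ Subgroup.centralizer (Q : Set G) := fun a ha b hb =>
    congrArg Subtype.val (habel ⟨b, hb⟩ ⟨a, ha⟩)
  set σQ := secRep e Q hcQ with hσQ
  let π : Additive ↥Q →+ Additive ↥(Q.map pr) := MonoidHom.toAdditive (pr.subgroupMap Q)
  let j : Additive ↥Z →+ Additive ↥Q := MonoidHom.toAdditive (Subgroup.inclusion hZQ)
  have hsqZ : ∀ a : ↥Q, (a : G) * a ∈ Z := fun a => by
    rw [← QuotientGroup.eq_one_iff (N := Z)]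
    exact (map_mul pr (a : G) a).trans (hV2 _ (Subgroup.mem_map_of_mem pr a.2))
  let q : Additive ↥(Q.map pr) →+ Additive ↥Z := AddMonoidHom.mk'
    (fun v => Additive.ofMul (⟨(lf v : G) * lf v, hsqZ _⟩ : ↥Z)) fun v v' =>
      Additive.toMul.injective (Subtype.ext (by
        show (lf (v + v') : G) * lf (v + v') = (lf v : G) * lf v * ((lf v' : G) * lf v')
        obtain ⟨u, hu, hl⟩ : ∃ u ∈ Z, (lf (v + v') : G) = (lf v * lf v' : ↥Q) * u :=
          ⟨_, (QuotientGroup.eq).1 (hlf_add v v').symm, (mul_inv_cancel_left _ _).symm⟩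
        have hl' : lf (v + v') = lf v * lf v' * ⟨u, hZQ hu⟩ := Subtype.ext hl
        calc (lf (v + v') : G) * lf (v + v')
            = ((lf v * lf v * (lf v' * lf v') * (⟨u, hZQ hu⟩ * ⟨u, hZQ hu⟩) : ↥Q) : G) := by
              rw [hl', ← Subgroup.coe_mul]
              congr 1
              simp only [mul_assoc, mul_left_comm, mul_comm]
          _ = _ := by
              simp only [Subgroup.coe_mul, hZ2 u hu, mul_one]))
  intro a ha
  have key := add_self_eq_zero_of_extension (τ := σQ) hV hZ hn π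
    (fun v => ⟨Additive.ofMul (lf v), Additive.toMul.injective (Subtype.ext (hlf v))⟩)
    (fun g m => by
      obtain ⟨y, hy⟩ := QuotientGroup.mk_surjective (e.symm g)
      have hg : e (QuotientGroup.mk y) = g := by rw [hy, MulEquiv.apply_symm_apply]
      refine Additive.toMul.injective (Subtype.ext ?_)
      rw [secRep_apply (y := pr y) ((he' y).trans hg)]
      show pr ((σQ g m).toMul : ↥Q) = pr y * pr (m.toMul : ↥Q) * (pr y)⁻¹
      rw [hσQ, secRep_apply hg, map_mul, map_mul, map_inv])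
    j (fun u v h => Additive.toMul.injective (Subgroup.inclusion_injective hZQ h))
    (fun g z => by
      obtain ⟨y, hy⟩ := QuotientGroup.mk_surjective (e.symm g)
      have hg : e (QuotientGroup.mk y) = g := by rw [hy, MulEquiv.apply_symm_apply]
      refine Additive.toMul.injective (Subtype.ext ?_)
      rw [hσQ, secRep_apply hg]
      show ((σZ g z).toMul : G) = y * ((z.toMul : ↥Z) : G) * y⁻¹
      rw [hσZ, secRep_apply hg])
    (fun m hm => ⟨Additive.ofMul ⟨(m.toMul : ↥Q), (QuotientGroup.eq_one_iff _).1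
      (congrArg (fun v : Additive ↥(Q.map pr) => ((v.toMul : ↥(Q.map pr)) : G ⧸ Z)) hm)⟩, rfl⟩)
    q
    (fun g v => by
      obtain ⟨y, hy⟩ := QuotientGroup.mk_surjective (e.symm g)
      have hg : e (QuotientGroup.mk y) = g := by rw [hy, MulEquiv.apply_symm_apply]
      subst hg
      refine Additive.toMul.injective (Subtype.ext ?_)
      rw [secRep_apply (y := y) rfl]
      show (lf (σV _ v) : G) * lf (σV _ v) = y * ((lf v : G) * lf v) * y⁻¹
      obtain ⟨u, hu, hl⟩ : ∃ u ∈ Z, (lf (σV (e (QuotientGroup.mk y)) v) : G) = (y * lf v * y⁻¹) * u :=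
        ⟨_, (QuotientGroup.eq).1 (hequiv y v).symm, (mul_inv_cancel_left _ _).symm⟩
      rw [hl]
      calc y * (lf v : G) * y⁻¹ * u * (y * lf v * y⁻¹ * u)
          = y * (lf v : G) * y⁻¹ * (u * (y * lf v * y⁻¹)) * u := by group
        _ = y * (lf v : G) * y⁻¹ * ((y * lf v * y⁻¹) * u) * u := by
            rw [show u * (y * lf v * y⁻¹) = y * (lf v : G) * y⁻¹ * u from
              (hcz u hu ⟨_, (inferInstance : Q.Normal).conj_mem _ (lf v).2 y⟩).symm]
        _ = y * ((lf v : G) * lf v) * y⁻¹ * (u * u) := by group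
        _ = _ := by rw [hZ2 u hu, mul_one])
    (fun m => by
      refine Additive.toMul.injective (Subtype.ext ?_)
      show ((m.toMul : ↥Q) : G) * (m.toMul : ↥Q) = (lf (π m) : G) * lf (π m)
      obtain ⟨u, hu, hl⟩ : ∃ u ∈ Z, ((m.toMul : ↥Q) : G) = (lf (π m) : G) * u :=
        ⟨_, (QuotientGroup.eq).1 (hlf (π m)), (mul_inv_cancel_left _ _).symm⟩
      rw [hl, mul_assoc, ← mul_assoc u, ← hcz u hu, mul_assoc, hZ2 u hu, mul_one])
    (Additive.ofMul ⟨a, ha⟩)
  exact congrArg (fun m : Additive ↥Q => ((m.toMul : ↥Q) : G)) key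

end Cfsg.Agent.LocalEvenD.SLTwo
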