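import Cfsg.Agent.LocalEvenD.SLTwo.Natural
import Mathlib.FieldTheory.Finite.Basic

/-!
Natural modules have no nonzero equivariant pairing into each other and admit no extension by an
equivariant squaring map.
-/

set_option autoImplicit false

attribute [local instance] Classical.propDecidable

namespace Cfsg.Agent.LocalEvenD.SLTwo

open Matrix

variable {K : Type*} [Field K] [Fintype K] [CharP K 2] {V Z : Type*} [AddCommGroup V] [AddCommGroup Z]
  {ρ : SpecialLinearGroup (Fin 2) K →* AddMonoid.End V}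
  {σ : SpecialLinearGroup (Fin 2) K →* AddMonoid.End Z}

theorem exists_coords (H : FPF σ) (z : Z) :
    ∃ a b, dd σ 1 a = 0 ∧ dd σ 1 b = 0 ∧ a + σ (wel K) b = z :=
  ⟨_, _, (coord_exists H z).1, (coord_exists H z).2.1, (coord_exists H z).2.2.symm⟩

theorem bb_cancel (H : FPF σ) (hn : ∃ s : K, s ≠ 0 ∧ s ≠ 1) {z : Z} (hz : dd σ 1 z = 0) {s : K}
    (hs : s ≠ 0) (h : bb σ s z = 0) : z = 0 := by
  have h1 := nat_bb_mul H hn hz s⁻¹ s
  rwa [inv_mul_cancel₀ hs, bb_one H hz, h, map_zero] at h1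

theorem bb_fixed_eq_zero (H : FPF σ) (hn : ∃ s : K, s ≠ 0 ∧ s ≠ 1) {z : Z} (hz : dd σ 1 z = 0)
    {s : K} (hs : s ≠ 0) (hs1 : s ≠ 1) (h : bb σ s (bb σ s z) = bb σ s z) : z = 0 := by
  have h1 : bb σ s z = z := by
    have h2 := congrArg (bb σ s⁻¹) h
    rwa [← nat_bb_mul H hn (bb_mem H s z) s⁻¹ s, inv_mul_cancel₀ hs, bb_one H (bb_mem H s z),
      ← nat_bb_mul H hn hz s⁻¹ s, inv_mul_cancel₀ hs, bb_one H hz] at h2
  refine bb_cancel H hn hz (s := s + 1) (fun he => hs1 (CharTwo.add_eq_zero.1 he)) ?_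
  rw [nat_bb_add H hn hz, bb_one H hz, h1, H.two]

theorem nat_dd_eq (H : FPF σ) (hn : ∃ s : K, s ≠ 0 ∧ s ≠ 1) (s : K) (z : Z) :
    dd σ s z = bb σ s (dd σ 1 z) := by
  conv_lhs => rw [(coord_exists H z).2.2]
  rw [map_add, dd_fixed H hn (coord_exists H z).1, zero_add, nat_dd_wel H hn (dd_self H 1 z)]

/-- An equivariant pairing of natural modules into a natural module vanishes. -/
theorem pairing_eq_zero (hV : FPF ρ) (hZ : FPF σ) (hn : ∃ s : K, s ≠ 0 ∧ s ≠ 1)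
    (B : V →+ V →+ Z) (hB : ∀ g v v', B (ρ g v) (ρ g v') = σ g (B v v')) : B = 0 := by
  have hr : ∀ a c : V, dd ρ 1 a = 0 → dd ρ 1 c = 0 → ∀ s,
      dd σ s (B a (ρ (wel K) c)) = B a (bb ρ s c) ∧
        dd σ s (B (ρ (wel K) c) a) = B (bb ρ s c) a := by
    intro a c ha hc s
    have hu : ρ (up K s) a = a := by rw [up_apply hV, dd_fixed hV hn ha, add_zero]
    constructor
    · rw [dd_apply, ← hB, hu, up_apply hV, map_add, nat_dd_wel hV hn hc, add_right_comm, hZ.two,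
        zero_add]
    · rw [dd_apply, ← hB, hu, up_apply hV, map_add, AddMonoidHom.add_apply, nat_dd_wel hV hn hc,
        add_right_comm, hZ.two, zero_add]
  have hmem : ∀ a c : V, dd ρ 1 a = 0 → dd ρ 1 c = 0 → dd σ 1 (B a c) = 0 := fun a c ha hc => by
    rw [dd_apply, ← hB, up_apply hV, up_apply hV, ha, hc, add_zero, add_zero, hZ.two]
  have hlin : ∀ a c : V, dd ρ 1 a = 0 → dd ρ 1 c = 0 → ∀ s,
      B a (bb ρ s c) = bb σ s (B a c) ∧ B (bb ρ s c) a = bb σ s (B c a) := by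
    intro a c ha hc s
    obtain ⟨h1, h2⟩ := hr a c ha hc s
    obtain ⟨h3, h4⟩ := hr a c ha hc 1
    rw [bb_one hV hc] at h3 h4
    exact ⟨by rw [← h1, nat_dd_eq hZ hn, h3], by rw [← h2, nat_dd_eq hZ hn, h4]⟩
  have h00 : ∀ a c : V, dd ρ 1 a = 0 → dd ρ 1 c = 0 → B a c = 0 := by
    intro a c ha hc
    obtain ⟨s, hs, hs1⟩ := hn
    refine bb_fixed_eq_zero hZ ⟨s, hs, hs1⟩ (hmem a c ha hc) hs hs1 ?_
    have hh : ∀ {v : V}, dd ρ 1 v = 0 → ρ (mon K s hs * wel K) v = bb ρ s v := fun {v} hv => by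
      rw [ap_mul, mon_apply_wel hV hv, dd_fixed hV ⟨s, hs, hs1⟩ hv, dd_fixed hV ⟨s, hs, hs1⟩ hv,
        add_zero, map_zero, add_zero]
    have e1 : bb σ s (bb σ s (B a c)) = B (bb ρ s a) (bb ρ s c) := by
      rw [(hlin _ c (bb_mem hV s a) hc s).1, (hlin c a hc ha s).2]
    rw [e1, ← hh ha, ← hh hc, hB, ap_mul, mon_apply_wel hZ (hmem a c ha hc),
      dd_fixed hZ ⟨s, hs, hs1⟩ (hmem a c ha hc), dd_fixed hZ ⟨s, hs, hs1⟩ (hmem a c ha hc),
      add_zero, map_zero, add_zero]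
  have h01 : ∀ a c : V, dd ρ 1 a = 0 → dd ρ 1 c = 0 →
      B a (ρ (wel K) c) = 0 ∧ B (ρ (wel K) c) a = 0 := by
    intro a c ha hc
    have hz : ∀ a c : V, dd ρ 1 a = 0 → dd ρ 1 c = 0 → dd σ 1 (B a (ρ (wel K) c)) = 0 ∧
        dd σ 1 (B (ρ (wel K) c) a) = 0 := fun a c ha hc => by
      rw [(hr a c ha hc 1).1, (hr a c ha hc 1).2, bb_one hV hc, h00 a c ha hc, h00 c a hc ha]
      exact ⟨rfl, rfl⟩
    have hw : ∀ v v', B (ρ (wel K) v) (ρ (wel K) v') = σ (wel K) (B v v') := hB (wel K)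
    have e1 : B (ρ (wel K) a) c = σ (wel K) (B a (ρ (wel K) c)) := by rw [← hw, wel_wel]
    have e2 : B c (ρ (wel K) a) = σ (wel K) (B (ρ (wel K) c) a) := by rw [← hw, wel_wel]
    constructor
    · exact ((coord_unique hZ (hz c a hc ha).2 (map_zero _) (map_zero _) (hz a c ha hc).1
        (by rw [map_zero, add_zero, zero_add, e1])).2).symm
    · exact ((coord_unique hZ (hz c a hc ha).1 (map_zero _) (map_zero _) (hz a c ha hc).2
        (by rw [map_zero, add_zero, zero_add, e2])).2).symm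
  refine AddMonoidHom.ext fun v => AddMonoidHom.ext fun v' => ?_
  obtain ⟨a, b, ha, hb, rfl⟩ := exists_coords hV v
  obtain ⟨c, d, hc, hd, rfl⟩ := exists_coords hV v'
  simp only [map_add, AddMonoidHom.add_apply, hB, h00 _ _ ha hc, h00 _ _ hb hd,
    (h01 _ _ ha hd).1, (h01 _ _ hc hb).2, map_zero, add_zero, AddMonoidHom.zero_apply]

variable {M : Type*} [AddCommGroup M]
  {τ : SpecialLinearGroup (Fin 2) K →* AddMonoid.End M}

theorem sum_units_eq (H : FPF σ) (f : Kˣ → Z) (y : Z) (hf : ∀ k, f k = y) : ∑ k, f k = y := by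
  classical
  rw [Finset.sum_congr rfl fun k _ => hf k, Finset.sum_const, Finset.card_univ,
    Fintype.card_units]
  obtain ⟨n, -, hn⟩ := FiniteField.card K 2
  obtain ⟨m, hm⟩ : ∃ m, Fintype.card K - 1 = 2 * m + 1 := by
    refine ⟨2 ^ ((n : ℕ) - 1) - 1, ?_⟩
    have : 0 < 2 ^ ((n : ℕ) - 1) := Nat.two_pow_pos _
    rw [hn, show (n : ℕ) = ((n : ℕ) - 1) + 1 from (Nat.succ_pred_eq_of_pos n.pos).symm, pow_succ]
    simp only [Nat.add_sub_cancel]
    omega
  rw [hm, add_smul, mul_smul, two_nsmul, H.two, zero_add, one_smul]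

/-- An extension of a natural module by a natural module has exponent two if squaring is
equivariant. -/
theorem add_self_eq_zero_of_extension (hV : FPF ρ) (hZ : FPF σ) (hn : ∃ s : K, s ≠ 0 ∧ s ≠ 1)
    (π : M →+ V) (hπs : Function.Surjective π) (hπ : ∀ g m, π (τ g m) = ρ g (π m))
    (j : Z →+ M) (hji : Function.Injective j) (hj : ∀ g z, j (σ g z) = τ g (j z))
    (hker : ∀ m, π m = 0 → ∃ z, j z = m) (q : V →+ Z) (hq : ∀ g v, q (ρ g v) = σ g (q v))
    (hsq : ∀ m, m + m = j (q (π m))) (m : M) : m + m = 0 := by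
  classical
  let D : K → M →+ M := fun s => AddMonoidHom.mk' (fun x => τ (up K s) x - x) fun a b => by
    simp only [map_add]; abel
  have hsub : ∀ a b : V, a - b = a + b := fun a b => by rw [sub_eq_add_neg, neg_eq hV]
  have hπD : ∀ s x, π (D s x) = dd ρ s (π x) := fun s x => by
    show π (τ (up K s) x - x) = _
    rw [map_sub, hπ, hsub, dd_apply]
  have hjD : ∀ s z, D s (j z) = j (dd σ s z) := fun s z => by
    show τ (up K s) (j z) - j z = _
    rw [dd_apply, map_add, ← hj, sub_eq_add_neg, ← map_neg, neg_eq hZ]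
  have hDsq : ∀ s x, D s (D s x) = j (q (π (D s x))) := fun s x => by
    show τ (up K s) (τ (up K s) x - x) - (τ (up K s) x - x) = _
    rw [map_sub, ← ap_mul, up_mul, CharTwo.add_self_eq_zero, up_zero, ap_one,
      ← neg_eq hZ (q (π (D s x))), map_neg, ← hsq]
    show _ = -((τ (up K s) x - x) + (τ (up K s) x - x))
    abel
  have hDc : ∀ s t x, D s (D t x) = D t (D s x) := fun s t x => by
    show τ (up K s) (τ (up K t) x - x) - (τ (up K t) x - x) =
      τ (up K t) (τ (up K s) x - x) - (τ (up K s) x - x)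
    rw [map_sub, map_sub, ← ap_mul, ← ap_mul, up_mul, up_mul, add_comm s t]
    abel
  -- a choice of representatives
  choose lift hlift using fun a : V => hπs (ρ (wel K) a)
  have hkerD : ∀ (s : K) (a : V), ∃ z, dd ρ 1 a = 0 → j z = D s (D 1 (lift a)) := by
    intro s a
    by_cases ha : dd ρ 1 a = 0
    · obtain ⟨z, hz⟩ := hker _ (show π (D s (D 1 (lift a))) = 0 by
        rw [hπD, hπD, hlift, nat_dd_wel hV hn ha, bb_one hV ha, dd_fixed hV hn ha])
      exact ⟨z, fun _ => hz⟩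
    · exact ⟨0, fun h => absurd h ha⟩
  choose G hG using hkerD
  have hqmem : ∀ a, dd ρ 1 a = 0 → dd σ 1 (q a) = 0 := fun a ha => by
    rw [dd_apply, ← hq, up_apply hV, ha, add_zero, hZ.two]
  have hqb : ∀ a, dd ρ 1 a = 0 → ∀ s, q (bb ρ s a) = bb σ s (q a) := fun a ha s => by
    rw [← nat_dd_wel hV hn ha, ← nat_dd_wel hZ hn (hqmem a ha), dd_apply, dd_apply, map_add, hq, hq]
  have key : ∀ (s : K) (a : V), dd ρ 1 a = 0 → dd σ 1 (G s a) = 0 ∧
      G s (bb ρ s a) + bb σ s (G s a) = bb σ s (q a) + bb σ s (bb σ s (q a)) := by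
    intro s a ha
    have hb := bb_mem hV s a
    obtain ⟨z, hz⟩ : ∃ z, j z = D s (lift a) - D 1 (lift (bb ρ s a)) := hker _ (by
      rw [map_sub, hπD, hπD, hlift, hlift, nat_dd_wel hV hn ha, nat_dd_wel hV hn hb,
        bb_one hV hb, sub_self])
    have hL : D s (lift a) = D 1 (lift (bb ρ s a)) + j z := by rw [hz]; abel
    have e1 : G s a = q (bb ρ s a) + dd σ 1 z := hji (by
      rw [hG s a ha, hDc, hL, map_add, hDsq, hπD, hlift, nat_dd_wel hV hn hb, bb_one hV hb, hjD,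
        map_add])
    have e2 : q (bb ρ s a) = G s (bb ρ s a) + dd σ s z := hji (by
      rw [map_add, hG s _ hb, ← hjD, ← map_add, ← hL, hDsq, hπD, hlift, nat_dd_wel hV hn ha])
    refine ⟨by rw [e1, map_add, hqmem _ hb, dd_self hZ, add_zero], ?_⟩
    have e3 : dd σ s z = bb σ s (G s a) + bb σ s (q (bb ρ s a)) := by
      rw [nat_dd_eq hZ hn, e1, map_add, add_comm (bb σ s (q (bb ρ s a))), add_assoc, hZ.two,
        add_zero]
    rw [← hqb a ha s]
    calc G s (bb ρ s a) + bb σ s (G s a)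
        = (G s (bb ρ s a) + (bb σ s (G s a) + bb σ s (q (bb ρ s a)))) + bb σ s (q (bb ρ s a)) := by
          rw [← add_assoc, add_assoc _ (bb σ s (q _)), hZ.two, add_zero]
      _ = _ := by rw [← e3, ← e2]
  have hq0 : ∀ a, dd ρ 1 a = 0 → q a = 0 := by
    intro a ha
    obtain ⟨s, hs, hs1⟩ := hn
    have hn : ∃ s : K, s ≠ 0 ∧ s ≠ 1 := ⟨s, hs, hs1⟩
    have hsum : ∑ k : Kˣ, bb σ (k : K) (G s (bb ρ s (bb ρ ((k⁻¹ : Kˣ) : K) a))) =
        ∑ k : Kˣ, bb σ (k : K) (bb σ s (G s (bb ρ ((k⁻¹ : Kˣ) : K) a))) := by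
      refine (Fintype.sum_equiv (Equiv.mulRight (Units.mk0 s hs)) _ _ fun k => ?_).symm
      rw [Equiv.coe_mulRight, ← nat_bb_mul hZ hn (key s _ (bb_mem hV _ a)).1,
        ← nat_bb_mul hV hn ha]
      congr 3
      simp [_root_.mul_inv_rev, hs]
    have hR : ∀ k : Kˣ, bb σ (k : K) (G s (bb ρ s (bb ρ ((k⁻¹ : Kˣ) : K) a))) +
        bb σ (k : K) (bb σ s (G s (bb ρ ((k⁻¹ : Kˣ) : K) a))) =
        bb σ s (q a) + bb σ s (bb σ s (q a)) := by
      intro k
      have hqa := hqmem a ha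
      rw [← map_add, (key s _ (bb_mem hV _ a)).2, hqb a ha, map_add]
      simp only [← nat_bb_mul hZ hn hqa]
      congr 1 <;> congr 1 <;> simp [mul_comm, mul_left_comm]
    have h := sum_units_eq hZ _ _ hR
    rw [Finset.sum_add_distrib, hsum, hZ.two] at h
    exact bb_fixed_eq_zero hZ hn (hqmem a ha) hs hs1 (eq_of_add_eq_zero hZ h.symm).symm
  obtain ⟨h1, h2, hv⟩ := coord_exists hV (π m)
  rw [hsq, hv, map_add, hq, hq0 _ h1, hq0 _ h2, map_zero, add_zero, map_zero]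

end Cfsg.Agent.LocalEvenD.SLTwo
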